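import Groth.Agent.GorLib.LocInjDim
import Mathlib

/-!
Torsionless modules over one dimensional Gorenstein rings.
-/

set_option autoImplicit false

universe u

namespace Groth.Agent.GorOneLib

open CategoryTheory

variable {S : Type u} [CommRing S]

theorem injDim_two [hS : LocCoh.IsGorensteinRing S] (hdim : ringKrullDim S ≤ 1) :
    HasInjectiveDimensionLT (ModuleCat.of S S) 2 := by
  refine (GorLib.hasInjectiveDimensionLT_iff_localizations 1 S).2 fun p => ?_
  have h1 := (GorLib.injectiveDimension_local 1 (Localization.AtPrime p.asIdeal)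
    (hS.isGorensteinLocalRing_localization p.asIdeal) ?_).1
  · exact hasInjectiveDimensionLT_of_iso (Depth.localizedSelfEquiv p.asIdeal).toModuleIso.symm 2
  · rw [IsLocalization.AtPrime.ringKrullDim_eq_height p.asIdeal]
    exact (Ideal.height_le_ringKrullDim_of_ne_top p.isPrime.ne_top).trans hdim

variable [LocCoh.IsGorensteinRing S]

theorem ext_one (hdim : ringKrullDim S ≤ 1) {M : Type u} [AddCommGroup M] [Module S M] {n : ℕ}
    (j : M →ₗ[S] (Fin n → S)) (hj : Function.Injective j) :
    Subsingleton (Abelian.Ext (ModuleCat.of S M) (ModuleCat.of S S) 1) := by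
  haveI := injDim_two hdim
  let T := ShortComplex.mk (ModuleCat.ofHom j) (ModuleCat.ofHom (LinearMap.range j).mkQ)
    (ModuleCat.hom_ext (LinearMap.ext fun x => (Submodule.Quotient.mk_eq_zero _).2 ⟨x, rfl⟩))
  have hT : T.ShortExact := GorLib.shortExact_mkQ j _ hj (Submodule.mkQ_surjective _) (by
    intro y
    simp)
  haveI : Projective T.X₂ := (IsProjective.iff_projective (R := S) (Fin n → S)).mp inferInstance
  refine ⟨fun a b => ?_⟩
  have h : ∀ x : Abelian.Ext T.X₁ (ModuleCat.of S S) 1, x = 0 := fun x => by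
    haveI := HasInjectiveDimensionLT.subsingleton (ModuleCat.of S S) 2 2 le_rfl T.X₃
    obtain ⟨y, hy⟩ := Abelian.Ext.contravariant_sequence_exact₁ hT (ModuleCat.of S S) x
      (show 1 + 1 = 2 from rfl) (Subsingleton.elim _ _)
    rw [← hy, y.eq_zero_of_projective, Abelian.Ext.comp_zero]
  exact (h a).trans (h b).symm

/-- Functionals extend along an injection with torsionless cokernel. -/
theorem exists_extend (hdim : ringKrullDim S ≤ 1) {A B : Type u} [AddCommGroup A] [Module S A]
    [AddCommGroup B] [Module S B] (i : A →ₗ[S] B) (hi : Function.Injective i) {n : ℕ}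
    (c : (B ⧸ LinearMap.range i) →ₗ[S] (Fin n → S)) (hc : Function.Injective c) (ψ : A →ₗ[S] S) :
    ∃ ψ' : B →ₗ[S] S, ψ'.comp i = ψ := by
  haveI := ext_one hdim c hc
  have hT := GorLib.shortExact_mkQ i (LinearMap.range i).mkQ hi (Submodule.mkQ_surjective _) (by
    intro y
    simp)
  obtain ⟨y, hy⟩ := Abelian.Ext.contravariant_sequence_exact₁ hT (ModuleCat.of S S)
    (Abelian.Ext.mk₀ (ModuleCat.ofHom ψ : ModuleCat.of S A ⟶ ModuleCat.of S S)) (show 1 + 0 = 1 from rfl)
    (Subsingleton.elim _ _)
  obtain ⟨g, rfl⟩ := (Abelian.Ext.mk₀_bijective _ _).2 y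
  rw [Abelian.Ext.mk₀_comp_mk₀] at hy
  exact ⟨g.hom, congrArg ModuleCat.Hom.hom ((Abelian.Ext.mk₀_bijective _ _).1 hy)⟩

omit [LocCoh.IsGorensteinRing S] in
theorem exists_embedding [IsNoetherianRing S] (M : Type u) [AddCommGroup M] [Module S M] [Module.Finite S M]
    (hM : Function.Injective (Module.Dual.eval S M)) :
    ∃ (n : ℕ) (j : M →ₗ[S] (Fin n → S)), Function.Injective j := by
  obtain ⟨n, g, hg⟩ := Module.Finite.exists_fin' S (Module.Dual S M)
  let j : M →ₗ[S] (Fin n → S) := LinearMap.pi fun i => g (Pi.single i 1)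
  refine ⟨n, j, (injective_iff_map_eq_zero _).2 fun x hx => hM ?_⟩
  rw [map_zero]
  refine LinearMap.ext fun φ => ?_
  obtain ⟨a, rfl⟩ := hg φ
  rw [pi_eq_sum_univ a, map_sum, Module.Dual.eval_apply, LinearMap.sum_apply, LinearMap.zero_apply]
  refine Finset.sum_eq_zero fun i _ => ?_
  rw [map_smul, LinearMap.smul_apply]
  have h := congrFun hx i
  simp only [j, LinearMap.pi_apply, Pi.zero_apply] at h
  rw [show (fun j => if i = j then (1 : S) else 0) = Pi.single i 1 by ext k; simp [Pi.single_apply, eq_comm], h, smul_zero]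

omit [LocCoh.IsGorensteinRing S] in
theorem dual_eval_injective (K : Type u) [AddCommGroup K] [Module S K] :
    Function.Injective (Module.Dual.eval S (Module.Dual S K)) := fun φ ψ h =>
  LinearMap.ext fun k => LinearMap.congr_fun h (Module.Dual.eval S K k)

theorem reflexive_of_torsionless (hdim : ringKrullDim S ≤ 1) (M : Type u) [AddCommGroup M] [Module S M]
    [Module.Finite S M] (hM : Function.Injective (Module.Dual.eval S M)) : Module.IsReflexive S M := by
  refine ⟨hM, fun y => ?_⟩
  obtain ⟨m, f, hf⟩ := Module.Finite.exists_fin' S M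
  let K := LinearMap.ker f
  haveI : Module.Finite S K := Module.Finite.of_fg (IsNoetherian.noetherian K)
  let F := Fin m → S
  let i : Module.Dual S M →ₗ[S] Module.Dual S F := f.dualMap
  have hi : Function.Injective i := LinearMap.dualMap_injective_of_surjective hf
  let res : Module.Dual S F →ₗ[S] Module.Dual S K := K.subtype.dualMap
  have hker : LinearMap.ker res = LinearMap.range i := by
    refine le_antisymm (fun φ hφ => ?_) ?_
    · let e := LinearMap.quotKerEquivOfSurjective f hf
      refine ⟨(K.liftQ φ fun k hk => LinearMap.congr_fun (LinearMap.mem_ker.1 hφ) ⟨k, hk⟩).comp e.symm.toLinearMap, ?_⟩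
      refine LinearMap.ext fun x => ?_
      show K.liftQ φ (fun k hk => LinearMap.congr_fun (LinearMap.mem_ker.1 hφ) ⟨k, hk⟩) (e.symm (f x)) = φ x
      rw [show e.symm (f x) = Submodule.Quotient.mk x from e.symm_apply_apply (Submodule.Quotient.mk x)]
      rfl
    · rintro _ ⟨φ, rfl⟩
      refine LinearMap.ext fun k => ?_
      show φ (f k) = 0
      rw [LinearMap.mem_ker.1 k.2, map_zero]
  haveI : IsNoetherian S (Module.Dual S F) := isNoetherian_of_isNoetherianRing_of_finite S _
  obtain ⟨n, jK, hjK⟩ := exists_embedding (Module.Dual S K) (dual_eval_injective K)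
  let c : (Module.Dual S F ⧸ LinearMap.range i) →ₗ[S] (Fin n → S) :=
    jK.comp ((LinearMap.range i).liftQ res hker.ge)
  have hc : Function.Injective c := hjK.comp (LinearMap.ker_eq_bot.1
    (Submodule.ker_liftQ_eq_bot' _ _ hker.symm))
  obtain ⟨y', hy'⟩ := exists_extend hdim i hi c hc y
  obtain ⟨x, hx⟩ := (Module.bijective_dual_eval S F).2 y'
  refine ⟨f x, LinearMap.ext fun φ => ?_⟩
  rw [← hy', LinearMap.comp_apply, ← hx]
  rfl

end Groth.Agent.GorOneLib
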